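import Cfsg.Agent.H59.EP.UB
import Cfsg.Agent.H173.EP.LineBound
import Cfsg.Agent.H419.EP.Big
import Cfsg.Agent.H914.Uni
import Cfsg.Agent.H729.PairMathieu
import Cfsg.Agent.UGT.MTwentyThree.Aut

/-!
# S3499-V, the sporadic row `soc(A) = M23` (helper831)

* `index_le_two` : UB1 + UB2 with the hypothesis `TwoGen` (so that the rows do not import S3948);
* `m23_card` : `soc(A) ≅ M23` implies `|A| = 10200960` and `|Q| < 2 ^ 86`;
* `Big.two_pow_le` : `2 ^ 88 ≤ |Q|` in the common situation `Big`;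
* `m23` : the row.
-/

set_option autoImplicit false

namespace Cfsg.Agent.H831.EPV

open Subgroup Cfsg Cfsg.Agent.H284 Cfsg.Agent.H419.EP Cfsg.Agent.H59.EP

universe u

/-- **UB1 + UB2** with the hypothesis `TwoGen` -/
theorem index_le_two {Q : Type u} [Group Q] [Finite Q] {A : Subgroup Q} {Γ : Subgroup (MulAut Q)} (hg : TwoGen.{u})
    (hs : IsSimpleGroup Q) (h : EPT A Γ)
    (hab : ∀ K : Subgroup Q, K ≤ A → (∀ a ∈ A, ∀ k ∈ K, a * k * a⁻¹ ∈ K) → (∀ a ∈ K, ∀ b ∈ K, a * b = b * a) → K = ⊥)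
    (l : List (ℕ × ℕ)) (h1 : ∀ x ∈ l, x.1.Prime ∧ 0 < x.2) (h2 : (l.map Prod.fst).Nodup)
    (h5 : ∀ x ∈ l, 5 ≤ x.1 → x.2 = 1) (hc : Nat.card A = (l.map fun x => x.1 ^ x.2).prod) :
    A.index ≤ 1 + ((l.map fun x => gal x.1 x.2).sum * (Nat.card A / 6) + Nat.card A ^ 2 / 60) *
      (2 * (Nat.card A / 6)) :=
  index_le_of (EPT.ncard_le_list h hg hab l h1 h2 h5 hc)
    (Cfsg.Agent.H173.EP.ub1 hs h (by norm_num) fun _ hx => EPT.six_le h hab hx) le_rfl

theorem card_mulAut23 : Nat.card (MulAut Spor.M23) = 10200960 := by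
  have hsurj : Function.Surjective (MulAut.conj : Spor.M23 →* MulAut Spor.M23) := by
    intro α
    obtain ⟨m, hm⟩ := Cfsg.Agent.UGT.MTwentyThree.Aut.exists_conj α
    exact ⟨m, hm.symm⟩
  have hinj : Function.Injective (MulAut.conj : Spor.M23 →* MulAut Spor.M23) := by
    have hsim : IsSimpleGroup Spor.M23 := H729.PairMathieu.simple_M23
    rw [← MonoidHom.ker_eq_bot_iff]
    rcases (MulAut.conj : Spor.M23 →* MulAut Spor.M23).normal_ker.eq_bot_or_eq_top with h1 | h1
    · exact h1
    · exfalso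
      have hcard := Cfsg.Agent.SporadicA.MathieuRecog.card_M23
      have hcomm : ∀ a b : Spor.M23, a * b = b * a := by
        intro a b
        have h2 : a ∈ (MulAut.conj : Spor.M23 →* MulAut Spor.M23).ker := by rw [h1]; trivial
        have h3 := DFunLike.congr_fun (MonoidHom.mem_ker.1 h2) b
        rw [MulAut.conj_apply, MulAut.one_apply, mul_inv_eq_iff_eq_mul] at h3
        exact h3
      have h4 : (Nat.card Spor.M23).Prime := by
        letI : CommGroup Spor.M23 := { (inferInstance : Group Spor.M23) with mul_comm := hcomm }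
        exact IsSimpleGroup.prime_card
      rw [hcard] at h4
      norm_num at h4
  rw [← Nat.card_congr (Equiv.ofBijective _ ⟨hinj, hsurj⟩)]
  exact Cfsg.Agent.SporadicA.MathieuRecog.card_M23

theorem m23_noncomm : ¬ ∀ a b : Spor.M23, a * b = b * a := by
  intro hcomm
  have hsim : IsSimpleGroup Spor.M23 := H729.PairMathieu.simple_M23
  have h4 : (Nat.card Spor.M23).Prime := by
    letI : CommGroup Spor.M23 := { (inferInstance : Group Spor.M23) with mul_comm := hcomm }
    exact IsSimpleGroup.prime_card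
  rw [Cfsg.Agent.SporadicA.MathieuRecog.card_M23] at h4
  norm_num at h4

variable {Q : Type u} [Group Q] [Finite Q] {A : Subgroup Q} {Γ : Subgroup (MulAut Q)}

theorem m23_cardA (hsoc : HasSoc A Spor.M23) : Nat.card A = 10200960 := by
  have hfin : Finite Spor.M23 := Nat.finite_of_card_ne_zero (by
    rw [Cfsg.Agent.SporadicA.MathieuRecog.card_M23]; norm_num)
  have h1 := hsoc.card_le
  have h2 := hsoc.card_dvd
  rw [card_mulAut23] at h1
  rw [Cfsg.Agent.SporadicA.MathieuRecog.card_M23] at h2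
  exact le_antisymm h1 (Nat.le_of_dvd Nat.card_pos h2)

/-- **Row `soc(A) = M23`**: the order of `Q`. -/
theorem m23_card (hg : TwoGen.{u}) (hs : IsSimpleGroup Q) (h : EPT A Γ) (hsoc : HasSoc A Spor.M23) :
    Nat.card Q < 2 ^ 86 := by
  have hc := m23_cardA hsoc
  have hsim : IsSimpleGroup Spor.M23 := H729.PairMathieu.simple_M23
  have h1 := index_le_two hg hs h (fun K h1 h2 h3 => hsoc.no_abelian hsim m23_noncomm h1 h2 h3)
    [(2, 7), (3, 2), (5, 1), (7, 1), (11, 1), (23, 1)] (by decide +kernel) (by decide +kernel) (by decide +kernel)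
    (by rw [hc]; decide +kernel)
  rw [hc] at h1
  have h2 : 1 + (([(2, 7), (3, 2), (5, 1), (7, 1), (11, 1), (23, 1)].map fun x : ℕ × ℕ => gal x.1 x.2).sum *
      (10200960 / 6) + 10200960 ^ 2 / 60) * (2 * (10200960 / 6)) < 2 ^ 86 / 10200960 := by decide +kernel
  have h3 : A.index < 2 ^ 86 / 10200960 := lt_of_le_of_lt h1 h2
  rw [← A.card_mul_index, hc]
  calc 10200960 * A.index < 10200960 * (2 ^ 86 / 10200960) := Nat.mul_lt_mul_of_pos_left h3 (by norm_num)
    _ ≤ 2 ^ 86 := Nat.mul_div_le _ _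

/-- **Row `soc(A) = M23`**, final form: impossible when `|Q| ≥ 2 ^ 90`. -/
theorem m23_false (hg : TwoGen.{u}) (hs : IsSimpleGroup Q) (h : EPT A Γ) {L : Type*} [Group L] (hsoc : HasSoc A L)
    (hL : Spor.IsoM23 L) (hQ : 2 ^ 86 ≤ Nat.card Q) : False := by
  obtain ⟨e⟩ := hL
  exact absurd (m23_card hg hs h (hsoc.congr e)) (not_lt.2 hQ)

/-! ### the common situation `Big` -/

section

variable {Q : Type} [Group Q] [Finite Q] {A : Subgroup Q} {Γ : Subgroup (MulAut Q)} {ι : Type} [Fintype ι]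
  [DecidableEq ι] {F : Type} [Field F] [Fintype F] {S P : Subgroup (GL ι F)}

/-- `2 ^ 88 ≤ |Q|` in all cases (the smallest group is `Ω₁₄(2)`) -/
theorem Big.two_pow_le (b : Big A Γ S P) : 2 ^ 88 ≤ Nat.card Q := by
  have hn := b.thirteen
  have hF : 2 ≤ Fintype.card F := b.two_le
  rcases b.kind with ⟨-, ho, -, -, -⟩ | ⟨f, -, -, h3, ho, -, -⟩ | ⟨q, hq, σ, f, -, -, -, ho, -, -⟩ |
    ⟨Qf, hQ, -, ho, -⟩
  · refine le_trans ?_ ho
    refine (Nat.pow_le_pow_left hF 88).trans (Nat.pow_le_pow_right (by omega) ?_)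
    have : 13 ^ 2 ≤ Fintype.card ι ^ 2 := Nat.pow_le_pow_left hn 2
    omega
  · have h4 : 13 * (13 + 1) / 2 ≤ Fintype.card ι * (Fintype.card ι + 1) / 2 :=
      Nat.div_le_div_right (Nat.mul_le_mul hn (by omega))
    have h5 : 3 ^ 91 ≤ 4 * Nat.card Q :=
      le_trans ((Nat.pow_le_pow_left h3 91).trans (Nat.pow_le_pow_right (by omega) (by omega))) ho
    have h6 : 4 * 2 ^ 88 ≤ 3 ^ 91 := by norm_num
    omega
  · have hq2 : 2 ≤ q := by
      by_contra hcon
      have : q = 0 ∨ q = 1 := by omega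
      rcases this with rfl | rfl <;> simp at hq <;> omega
    refine le_trans ?_ ho
    refine (Nat.pow_le_pow_left hq2 88).trans (Nat.pow_le_pow_right (by omega) ?_)
    have : 13 ^ 2 ≤ Fintype.card ι ^ 2 := Nat.pow_le_pow_left hn 2
    omega
  · by_cases h2 : Fintype.card F = 2
    · have hchar : (2 : F) = 0 := by
        have h4 := FiniteField.cast_card_eq_zero F
        rw [h2] at h4
        exact_mod_cast h4
      have h4 : ∀ v : ι → F, QuadraticMap.polar Qf v v = 0 := by
        intro v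
        have e1 : v + v = (2 : F) • v := (two_smul F v).symm
        have e0 : Qf ((2 : F) • v) = 0 := by rw [hQ.smul, hchar]; ring
        have e2 : Qf v + Qf v = 2 * Qf v := (two_mul _).symm
        show Qf (v + v) - Qf v - Qf v = 0
        rw [e1, e0, sub_sub, e2, hchar]
        ring
      have hsym : Cfsg.Geo.IsSymplecticForm (QuadraticMap.polar Qf) := by
        refine ⟨hQ.polar_bilinear, ?_, h4, hQ.nondegenerate⟩
        intro v w
        have e1 : (2 : F) * QuadraticMap.polar Qf w v = 0 := by rw [hchar]; ring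
        rw [eq_neg_iff_add_eq_zero, QuadraticMap.polar_comm, ← two_mul]
        exact e1
      have hev := H914.even_card_of_symplectic hsym
      have h14 : 14 ≤ Fintype.card ι := by
        rcases Nat.lt_or_ge 13 (Fintype.card ι) with h | h
        · exact h
        · exfalso
          have : Fintype.card ι = 13 := by omega
          rw [this] at hev
          exact absurd hev (by decide)
      have h5 := b.ord_two h14
      have h6 : 8 * 2 ^ 88 ≤ 2 ^ (14 * (14 - 1) / 2) := by norm_num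
      omega
    · have h3 : 3 ≤ Fintype.card F := by omega
      have h4 : 13 * (13 - 1) / 2 ≤ Fintype.card ι * (Fintype.card ι - 1) / 2 :=
        Nat.div_le_div_right (Nat.mul_le_mul hn (by omega))
      have h5 : 3 ^ 78 ≤ 8 * Nat.card Q :=
        le_trans ((Nat.pow_le_pow_left h3 78).trans (Nat.pow_le_pow_right (by omega) (by omega))) ho
      have h6 : 8 * 2 ^ 88 ≤ 3 ^ 78 := by norm_num
      omega

/-- **The row `M23`.** -/
theorem m23 (hg : TwoGen.{0}) (b : Big A Γ S P) (h : Spor.IsoM23 (socle P)) : False :=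
  m23_false hg b.simple b.ept b.hasSoc h ((Nat.pow_le_pow_right (by norm_num) (by norm_num)).trans
    (Big.two_pow_le b))

end

end Cfsg.Agent.H831.EPV
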